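import Groth.Agent.Lib.EGA2.ProjMap
import Mathlib.AlgebraicGeometry.Morphisms.ClosedImmersion
import Mathlib.AlgebraicGeometry.Morphisms.UnderlyingMap

/-!
The morphism from `Proj S` to the spectrum of the natural graded ring modulo the irrelevant ideal.
-/

set_option autoImplicit false
set_option linter.style.haveILetI false

universe u

open CategoryTheory AlgebraicGeometry HomogeneousLocalization

namespace Groth.Agent.NatDegZero11

variable {R A B C : Type u} [CommRing R] [CommRing A] [Algebra R A]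
  (𝒜 : ℕ → Submodule R A) [GradedAlgebra 𝒜] [CommRing B] [Algebra R B] (ℬ : ℕ → Submodule R B) [GradedAlgebra ℬ]
  (φ : B →ₐ[R] Polynomial A) (hφ : Function.Injective φ)
  (hdeg : ∀ n : ℕ, Submodule.map φ.toLinearMap (ℬ n) =
    Submodule.map ((Polynomial.monomial n : A →ₗ[A] Polynomial A).restrictScalars R) (⨆ (m : ℕ) (_ : n ≤ m), 𝒜 m))
  [CommRing C] [Algebra R C] {𝒞 : ℕ → Submodule R C} [GradedAlgebra 𝒞]
  (π : ℬ →+*ᵍ 𝒞) (hπ : Function.Surjective π)
  (hker : RingHom.ker π.toRingHom =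
    Ideal.span (⇑φ ⁻¹' (⇑(Polynomial.C : A →+* Polynomial A) '' ((HomogeneousIdeal.irrelevant 𝒜).toIdeal : Set A))))
  (ρ : 𝒞 →+*ᵍ 𝒜) (hρ : ∀ (n : ℕ) (b : B), b ∈ ℬ n → ρ (π b) = GradedRing.proj 𝒜 n ((φ b).coeff n))

include hdeg in
theorem exists_lift {n m : ℕ} (h : n ≤ m) {f : A} (hf : f ∈ 𝒜 m) :
    ∃ b ∈ ℬ n, φ b = Polynomial.monomial n f := by
  have : Polynomial.monomial n f ∈ Submodule.map φ.toLinearMap (ℬ n) := by
    rw [hdeg n]
    exact ⟨f, Submodule.mem_iSup_of_mem m (Submodule.mem_iSup_of_mem h hf), rfl⟩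
  exact this

include hπ in
theorem exists_preimage {n : ℕ} {c : C} (hc : c ∈ 𝒞 n) : ∃ b ∈ ℬ n, π b = c := by
  classical
  obtain ⟨b, rfl⟩ := hπ c
  refine ⟨DirectSum.decompose ℬ b n, SetLike.coe_mem _, ?_⟩
  rw [GradedRingHom.map_directSumDecompose, DirectSum.decompose_of_mem_same 𝒞 hc]

include hφ hdeg hρ in
theorem mem_of_kernel {n : ℕ} {b : B} (hb : b ∈ ℬ n) (h : ρ (π b) = 0) (N : AddSubmonoid B)
    (hN : ∀ (m : ℕ) (f : A), n < m → f ∈ 𝒜 m → ∀ b' ∈ ℬ n, φ b' = Polynomial.monomial n f → b' ∈ N) : b ∈ N := by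
  classical
  have h1 : φ b ∈ Submodule.map φ.toLinearMap (ℬ n) := ⟨b, hb, rfl⟩
  rw [hdeg n] at h1
  obtain ⟨a, ha, hab⟩ := h1
  have hab' : Polynomial.monomial n a = φ b := hab
  have key : ∀ k, k ≤ n → (DirectSum.decompose 𝒜 a k : A) = 0 := by
    intro k hk
    rcases hk.lt_or_eq with hk | rfl
    · clear hab hab'
      induction ha using Submodule.iSup_induction' with
      | mem m x hx =>
        induction hx using Submodule.iSup_induction' with
        | mem hm y hy => exact DirectSum.decompose_of_mem_ne 𝒜 hy (by omega)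
        | zero => simp
        | add x y _ _ hx hy => rw [DirectSum.decompose_add, DirectSum.add_apply, Submodule.coe_add, hx, hy, add_zero]
      | zero => simp
      | add x y _ _ hx hy => rw [DirectSum.decompose_add, DirectSum.add_apply, Submodule.coe_add, hx, hy, add_zero]
    · rw [hρ k b hb, ← hab', Polynomial.coeff_monomial, if_pos rfl, GradedRing.proj_apply] at h
      exact h
  have h2 : ∀ m, n < m → ∃ b' ∈ ℬ n, φ b' = Polynomial.monomial n (DirectSum.decompose 𝒜 a m : A) := fun m hm =>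
    exists_lift 𝒜 ℬ φ hdeg hm.le (SetLike.coe_mem _)
  choose g hg hg' using h2
  have hb' : b = ∑ m ∈ (DirectSum.decompose 𝒜 a).support, (if hm : n < m then g m hm else 0) := by
    apply hφ
    rw [← hab', map_sum]
    conv_lhs => rw [← DirectSum.sum_support_decompose 𝒜 a, map_sum]
    refine Finset.sum_congr rfl fun m _ => ?_
    by_cases hm : n < m
    · rw [dif_pos hm, hg' m hm]
    · rw [dif_neg hm, map_zero, key m (by omega), map_zero]
  rw [hb']
  refine sum_mem fun m _ => ?_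
  by_cases hm : n < m
  · rw [dif_pos hm]
    exact hN m _ hm (SetLike.coe_mem _) _ (hg m hm) (hg' m hm)
  · rw [dif_neg hm]
    exact N.zero_mem

include hdeg hker in
theorem eq_zero_of_const_mul {n m : ℕ} (hm : 0 < m) {g : A} (hg : g ∈ 𝒜 m) {x : B} {b : B}
    (hb : φ b = Polynomial.C g * φ x) (hφ : Function.Injective φ) : π b = 0 := by
  have _ := n
  obtain ⟨c, -, hc⟩ := exists_lift 𝒜 ℬ φ hdeg (Nat.zero_le m) hg
  have hc0 : c ∈ RingHom.ker π.toRingHom := by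
    rw [hker]
    exact Ideal.subset_span ⟨g, HomogeneousIdeal.mem_irrelevant_of_mem _ hm hg, by rw [hc, Polynomial.monomial_zero_left]⟩
  have : b = c * x := hφ (by rw [hb, map_mul, hc, Polynomial.monomial_zero_left])
  rw [this]
  exact (RingHom.mem_ker).1 (Ideal.mul_mem_right _ _ hc0)

include hφ hdeg hπ hker hρ in
theorem isNilpotent_of_eq_zero {n : ℕ} {c : C} (hc : c ∈ 𝒞 n) (h : ρ c = 0) : IsNilpotent c := by
  obtain ⟨b, hb, rfl⟩ := exists_preimage ℬ π hπ hc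
  refine mem_of_kernel 𝒜 ℬ φ hφ hdeg π ρ hρ hb h
    (AddSubmonoid.comap (π.toRingHom : B →+ C) (nilradical C).toAddSubmonoid) fun m f hm hf b' hb' e => ?_
  show π b' ∈ nilradical C
  refine mem_nilradical.2 ⟨m, ?_⟩
  obtain ⟨y, -, hy⟩ := exists_lift 𝒜 ℬ φ hdeg le_rfl hf
  rw [← map_pow]
  refine eq_zero_of_const_mul 𝒜 ℬ φ hdeg π hker (n := n) (m := (m - n) * m) (Nat.mul_pos (Nat.sub_pos_of_lt hm) (by omega))
    (g := f ^ (m - n)) (by simpa [smul_eq_mul] using SetLike.pow_mem_graded (m - n) hf) (x := y ^ n) ?_ hφ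
  rw [map_pow φ b' m, e, map_pow φ y n, hy, Polynomial.monomial_pow, Polynomial.monomial_pow, Polynomial.C_mul_monomial, ← pow_add,
    Nat.sub_add_cancel hm.le, mul_comm n m]

include hdeg hρ in
theorem surjOn (n : ℕ) : Set.SurjOn ρ (𝒞 n) (𝒜 n) := by
  classical
  intro a ha
  obtain ⟨b, hb, e⟩ := exists_lift 𝒜 ℬ φ hdeg le_rfl (show a ∈ 𝒜 n from ha)
  refine ⟨π b, π.map_mem hb, ?_⟩
  rw [hρ n b hb, e, Polynomial.coeff_monomial, if_pos rfl, GradedRing.proj_apply]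
  exact DirectSum.decompose_of_mem_same 𝒜 ha

include hφ hdeg hπ hker hρ in
theorem eq_zero_of_large {n₀ : ℕ} (hgen : ∀ n : ℕ, n₀ ≤ n → 𝒜 (n + 1) = 𝒜 1 * 𝒜 n) {n : ℕ} (hn : n₀ ≤ n)
    {c : C} (hc : c ∈ 𝒞 n) (h : ρ c = 0) : c = 0 := by
  obtain ⟨b, hb, rfl⟩ := exists_preimage ℬ π hπ hc
  refine mem_of_kernel 𝒜 ℬ φ hφ hdeg π ρ hρ hb h (AddSubmonoid.comap (π.toRingHom : B →+ C) ⊥) fun m f hm hf b' hb' e => ?_
  show π b' = 0
  obtain ⟨k, rfl⟩ : ∃ k, m = k + 1 := ⟨m - 1, by omega⟩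
  rw [hgen k (by omega)] at hf
  have key : ∀ a ∈ 𝒜 1 * 𝒜 k, ∃ b₁ ∈ ℬ n, φ b₁ = Polynomial.monomial n a ∧ π b₁ = 0 := by
    intro a ha
    refine Submodule.mul_induction_on ha (fun g hg x hx => ?_) ?_
    · obtain ⟨b₁, hb₁, e₁⟩ := exists_lift 𝒜 ℬ φ hdeg (show n ≤ 1 + k by omega) (SetLike.mul_mem_graded hg hx)
      obtain ⟨y, -, hy⟩ := exists_lift 𝒜 ℬ φ hdeg (show n ≤ k by omega) hx
      exact ⟨b₁, hb₁, e₁, eq_zero_of_const_mul 𝒜 ℬ φ hdeg π hker (n := n) one_pos hg (x := y)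
        (by rw [e₁, hy, Polynomial.C_mul_monomial]) hφ⟩
    · rintro a₁ a₂ ⟨b₁, hb₁, e₁, z₁⟩ ⟨b₂, hb₂, e₂, z₂⟩
      exact ⟨b₁ + b₂, add_mem hb₁ hb₂, by rw [map_add, e₁, e₂, map_add], by rw [map_add, z₁, z₂, add_zero]⟩
  obtain ⟨b₁, -, e₁, z₁⟩ := key f hf
  rw [hφ (e.trans e₁.symm)]
  exact z₁

include hdeg hρ in
theorem isClosedImmersion_map (hirr : HomogeneousIdeal.irrelevant 𝒜 ≤ (HomogeneousIdeal.irrelevant 𝒞).map ρ) :
    IsClosedImmersion (Proj.map ρ hirr) :=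
  EGA2.map_of_forall_away ρ hirr @IsClosedImmersion fun _ hd _ hs => IsClosedImmersion.spec_of_surjective _
    (EGA2.away_map_surjective ρ (fun n _ => surjOn 𝒜 ℬ φ hdeg π ρ hρ n) hd hs)

include hφ hdeg hπ hker hρ in
theorem surjective_map (hirr : HomogeneousIdeal.irrelevant 𝒜 ≤ (HomogeneousIdeal.irrelevant 𝒞).map ρ) :
    Surjective (Proj.map ρ hirr) :=
  EGA2.map_of_forall_away ρ hirr @Surjective fun d hd s hs => ⟨fun q => by
    have hsur := EGA2.away_map_surjective ρ (fun n _ => surjOn 𝒜 ℬ φ hdeg π ρ hρ n) hd hs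
    have : q ∈ Set.range (PrimeSpectrum.comap (Away.map ρ s)) := by
      rw [range_comap_of_surjective _ _ hsur]
      intro x hx
      obtain ⟨n, a, ha, rfl⟩ := Away.mk_surjective 𝒞 hs x
      rw [SetLike.mem_coe, RingHom.mem_ker, Away.map_mk, EGA2.away_mk_eq_zero_iff] at hx
      obtain ⟨k, hk⟩ := hx
      rw [← map_pow, ← map_mul] at hk
      obtain ⟨N, hN⟩ := isNilpotent_of_eq_zero 𝒜 ℬ φ hφ hdeg π hπ hker ρ hρ
        (SetLike.mul_mem_graded (SetLike.pow_mem_graded k hs) ha) hk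
      haveI := q.isPrime
      refine nilradical_le_prime q.asIdeal (mem_nilradical.2 ⟨N, ?_⟩)
      apply HomogeneousLocalization.val_injective
      rw [HomogeneousLocalization.val_pow, Away.val_mk, HomogeneousLocalization.val_zero, Localization.mk_pow,
        Localization.mk_eq_mk', IsLocalization.mk'_eq_zero_iff]
      exact ⟨⟨s ^ (k * N), ⟨k * N, rfl⟩⟩, by rw [← hN, mul_pow, ← pow_mul]⟩
    exact this⟩

end Groth.Agent.NatDegZero11
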